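import Cfsg.Agent.CosetEnum.Fi23E7D.Data

set_option autoImplicit false
set_option maxRecDepth 100000
set_option Elab.async false

/-! Deductions for the coset table on 6 cosets (generated certificate). -/

namespace CfsgLib.CosetEnum.Fi23E7D

def B0 : ℕ := 0x2333310

theorem tree0 : foldR (tree 5 tb id parN parX) 3 0 0 = B0 := by decide +kernel

theorem goodT0 : enum.Good B0 := enum.good_tree_block 3 0 _ _ enum.good_zero tree0

theorem good0 : enum.Good B0 := goodT0

def D1 : ℕ := 0xff00000000ff00000000ff00000000ff00000000ff00000000ff00000000ff00000000ff00000000ff00000000ff00000000ff00000000ff00000004040100000403010000040201000003010300000308010000030701000002060300000202020000020b010000010a03000001070200000103020000000d030000000b02000000080200000004020000001200000000110000000010000000000f00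

def B1 : ℕ := 0x3fffffff

theorem step1 : runDed 5 tb id wd 15 19 5 D1 B0 = B1 := by decide +kernel

theorem good1 : enum.Good B1 :=
  enum.good_ded 5 D1 15 19 _ _ rfl rfl good0 step1

end CfsgLib.CosetEnum.Fi23E7D
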